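import Groth.Agent.ModSupp.Elem
import Groth.Agent.S3089
import Groth.Agent.ModShf.ToSheaf
import Groth.Agent.SiteCoh.ModuleFree
import Groth.Agent.ModShf.AcyclicRes
import Mathlib.CategoryTheory.Sites.LocallySurjective

/-!
# Totally acyclic modules form a good class for `Γ_Z`
-/

set_option autoImplicit false

universe u

open CategoryTheory CategoryTheory.Limits Opposite

namespace Groth.Agent.ModSupp

open ModSite Groth.Agent.KFlat Groth.Agent.ExtSuppLib

variable {C : Type u} [SmallCategory C] {J : GrothendieckTopology C} {O : Sheaf J CommRingCat.{u}}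
  (U : C)

/-- The morphisms to `V` whose source maps to `U`, as a presheaf of sets. -/
def overPre (V : C) : Cᵒᵖ ⥤ Type u where
  obj W := { g : W.unop ⟶ V // Nonempty (W.unop ⟶ U) }
  map f := ↾fun g => ⟨f.unop ≫ g.1, g.2.map (fun w => f.unop ≫ w)⟩

/-- The inclusion of `overPre`. -/
def overPreι (V : C) : overPre U V ⟶ yoneda.obj V where
  app W := ↾fun g => g.1

instance mono_overPreι (V : C) : Mono (overPreι U V) := by
  have : ∀ W, Mono ((overPreι U V).app W) := fun W =>
    (CategoryTheory.mono_iff_injective _).2 Subtype.val_injective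
  exact NatTrans.mono_of_mono_app _

theorem exists_of_yoneda (G : Cᵒᵖ ⥤ AddCommGrpCat.{u}) (V : C)
    (a : overPre U V ⟶ G ⋙ forget AddCommGrpCat.{u}) (x : yoneda.obj V ⟶ G ⋙ forget AddCommGrpCat.{u})
    (hx : overPreι U V ≫ x = a) :
    ∃ s : G.obj (op V), ∀ ⦃W : C⦄ (g : W ⟶ V) (w : W ⟶ U),
      G.map g.op s = a.app (op W) ⟨g, ⟨w⟩⟩ := by
  subst hx
  refine ⟨x.app (op V) (𝟙 V), fun W g w => ?_⟩
  refine (NatTrans.naturality_apply x g.op (𝟙 V)).symm.trans ?_
  exact congrArg (x.app (op W)) (Category.comp_id g)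

/-- Compatible sections of a totally acyclic sheaf on the part over `U` extend. -/
theorem exists_extend (F : Sheaf J AddCommGrpCat.{u}) (hF : CohCx.IsTotallyAcyclic F) (V : C)
    (a : overPre U V ⟶ F.obj ⋙ forget AddCommGrpCat.{u}) :
    ∃ s : F.obj.obj (op V), ∀ ⦃W : C⦄ (g : W ⟶ V) (w : W ⟶ U),
      F.obj.map g.op s = a.app (op W) ⟨g, ⟨w⟩⟩ := by
  let sh := presheafToSheaf J (Type u)
  let Fs : Sheaf J (Type u) := (sheafCompose J (forget AddCommGrpCat.{u})).obj F
  let ι : sh.obj (overPre U V) ⟶ sh.obj (yoneda.obj V) := sh.map (overPreι U V)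
  have : Mono ι := Functor.map_mono sh (overPreι U V)
  let a' : sh.obj (overPre U V) ⟶ Fs := ((sheafificationAdjunction J (Type u)).homEquiv _ Fs).symm a
  let d : (SiteCoh.Free.freePre J).obj (sh.obj (overPre U V)).obj ⟶ F :=
    ((SiteCoh.Free.adj J).homEquiv _ F).symm a'.hom
  obtain ⟨e, he⟩ := Groth.Agent.S3089.result F hF ι d
  let e' : (sh.obj (yoneda.obj V)).obj ⟶ Fs.obj := (SiteCoh.Free.adj J).homEquiv _ F e
  have he' : ι.hom ≫ e' = a'.hom := by
    refine ((SiteCoh.Free.adj J).homEquiv_naturality_left ι.hom e).symm.trans ?_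
    refine (congrArg _ he).trans ?_
    exact ((SiteCoh.Free.adj J).homEquiv _ F).apply_symm_apply a'.hom
  let η₁ : overPre U V ⟶ (sh.obj (overPre U V)).obj :=
    (sheafificationAdjunction J (Type u)).unit.app (overPre U V)
  let η₂ : yoneda.obj V ⟶ (sh.obj (yoneda.obj V)).obj :=
    (sheafificationAdjunction J (Type u)).unit.app (yoneda.obj V)
  have h : overPreι U V ≫ η₂ = η₁ ≫ ι.hom :=
    (sheafificationAdjunction J (Type u)).unit.naturality (overPreι U V)
  have ha : η₁ ≫ a'.hom = a :=
    ((sheafificationAdjunction J (Type u)).homEquiv_unit _ _ a').symm.trans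
      (((sheafificationAdjunction J (Type u)).homEquiv _ Fs).apply_symm_apply a)
  let x : yoneda.obj V ⟶ Fs.obj := η₂ ≫ e'
  have hx : overPreι U V ≫ x = a := by
    simp only [x]
    rw [← Category.assoc, h, Category.assoc, he']
    exact ha
  exact exists_of_yoneda U F.obj V a x hx

/-- The predicate: the underlying abelian sheaf is totally acyclic. -/
abbrev AcyclicMod : ObjectProperty (Mod O) := fun M => CohCx.IsTotallyAcyclic (toAb M)

theorem acyclicMod_of_injective (I : Mod O) (_ : Injective I) : AcyclicMod I :=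
  SiteCoh.ModuleFree.isTotallyAcyclic_toSheaf (ringSh O) I

theorem acyclicMod_coker (S : ShortComplex (Mod O)) (hS : S.ShortExact) (h₁ : AcyclicMod S.X₁)
    (h₂ : AcyclicMod S.X₂) : AcyclicMod S.X₃ := by
  intro K p
  have hS' := hS.map_of_exact (SheafOfModules.toSheaf (ringSh O))
  refine ⟨fun x y => ?_⟩
  have h : ∀ x : CohCx.HK K (toAb S.X₃) (p + 1), x = 0 := fun x => by
    obtain ⟨x₂, rfl⟩ := Abelian.Ext.covariant_sequence_exact₃ _ hS' x rfl
      ((h₁ K (p + 1)).elim _ _)
    rw [(h₂ K p).elim x₂ 0]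
    exact Abelian.Ext.zero_comp _ _ _ _ _
  rw [h x, h y]

variable [HasPushOver O U]

set_option synthInstance.maxHeartbeats 100000 in
theorem epi_sectOn_map (S : ShortComplex (Mod O)) (hS : S.ShortExact) (h₁ : AcyclicMod S.X₁) :
    Epi ((sectOn O U).map S.g) := by
  have hfaith : (SheafOfModules.toSheaf.{u} (ringSh O)).Faithful := inferInstance
  have := @CategoryTheory.Functor.reflectsEpimorphisms_of_faithful _ _ _ _ (SheafOfModules.toSheaf.{u} (ringSh O)) hfaith
  apply (SheafOfModules.toSheaf (ringSh O)).epi_of_epi_map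
  rw [← Sheaf.isLocallySurjective_iff_epi']
  have hg : Sheaf.IsLocallySurjective ((SheafOfModules.toSheaf (ringSh O)).map S.g) := by
    have := hS.epi_g
    exact (Sheaf.isLocallySurjective_iff_epi' _ _).2 inferInstance
  have hf : ∀ W : C, Function.Injective (((SheafOfModules.toSheaf (ringSh O)).map S.f).hom.app (op W)) := by
    intro W
    have := hS.mono_f
    have : Mono ((toPre O).map S.f) := (toPre O).map_mono _
    exact PresheafOfModules.injective_of_mono ((toPre O).map S.f) (op W)
  have hker : ∀ (W : C) (m : (toAb S.X₂).obj.obj (op W)), ((SheafOfModules.toSheaf (ringSh O)).map S.g).hom.app (op W) m = 0 →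
      ∃ a : (toAb S.X₁).obj.obj (op W), ((SheafOfModules.toSheaf (ringSh O)).map S.f).hom.app (op W) a = m := by
    intro W m hm
    let E := (SheafOfModules.toSheaf (ringSh O)) ⋙ sheafToPresheaf J AddCommGrpCat.{u} ⋙
      (evaluation Cᵒᵖ AddCommGrpCat.{u}).obj (op W)
    have := hS.mono_f
    have h := hS.exact.map_of_mono_of_preservesKernel E inferInstance inferInstance
    exact ((S.map E).ab_exact_iff).1 h m hm
  constructor
  intro V n
  refine J.superset_covering ?_ (Presheaf.imageSieve_mem J ((SheafOfModules.toSheaf (ringSh O)).map S.g).hom (sectι U S.X₃ V n))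
  rintro V' v ⟨m, hm⟩
  have hsm : ∀ ⦃W : C⦄ (g : W ⟶ V') (_ : W ⟶ U),
      ((SheafOfModules.toSheaf (ringSh O)).map S.g).hom.app (op W) ((toAb S.X₂).obj.map g.op m) = 0 := fun W g w => by
    refine (NatTrans.naturality_apply ((SheafOfModules.toSheaf (ringSh O)).map S.g).hom g.op m).trans ?_
    refine (congrArg _ hm).trans ?_
    refine Eq.trans ?_ (supported_sectι U S.X₃ V n (g ≫ v) w)
    exact (ConcreteCategory.congr_hom ((toAb S.X₃).obj.map_comp v.op g.op) _).symm
  choose a ha using fun (W : C) (g : W ⟶ V') (w : W ⟶ U) => hker W _ (hsm g w)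
  let α : overPre U V' ⟶ (toAb S.X₁).obj ⋙ forget AddCommGrpCat.{u} :=
    { app := fun W => ↾fun g => a W.unop g.1 g.2.some
      naturality := fun W W' f => by
        refine ConcreteCategory.hom_ext _ _ (fun g => ?_)
        apply hf W'.unop
        refine (ha _ _ _).trans ?_
        refine Eq.trans ?_ (NatTrans.naturality_apply ((SheafOfModules.toSheaf (ringSh O)).map S.f).hom f _).symm
        refine Eq.trans ?_ (congrArg _ (ha _ _ _).symm)
        exact ConcreteCategory.congr_hom ((toAb S.X₂).obj.map_comp g.1.op f) m }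
  obtain ⟨s, hs⟩ := exists_extend U (toAb S.X₁) h₁ V' α
  have hsupp : Supported U S.X₂ (m - ((SheafOfModules.toSheaf (ringSh O)).map S.f).hom.app (op V') s) := by
    intro W g w
    refine ((map_sub _ _ _).trans (sub_eq_zero.2 ?_))
    refine Eq.trans ?_ (NatTrans.naturality_apply ((SheafOfModules.toSheaf (ringSh O)).map S.f).hom g.op s)
    rw [hs g w]
    exact (ha W g _).symm
  obtain ⟨k, hk⟩ := exists_sectι_eq U S.X₂ V' _ hsupp
  refine ⟨k, sectι_injective U S.X₃ V' ?_⟩
  have h1 : sectι U S.X₃ V' (((SheafOfModules.toSheaf (ringSh O)).map ((sectOn O U).map S.g)).hom.app (op V') k) =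
      ((SheafOfModules.toSheaf (ringSh O)).map S.g).hom.app (op V') (sectι U S.X₂ V' k) :=
    congrArg (fun φ => ((toPre O).map φ).app (op V') k) ((sectOnι O U).naturality S.g)
  refine h1.trans ?_
  refine (congrArg _ hk).trans ?_
  refine (map_sub _ _ _).trans ?_
  have h2 : ((SheafOfModules.toSheaf (ringSh O)).map S.g).hom.app (op V') (((SheafOfModules.toSheaf (ringSh O)).map S.f).hom.app (op V') s) = 0 :=
    congrArg (fun φ => ((toPre O).map φ).app (op V') s) S.zero
  rw [h2, sub_zero]
  refine hm.trans ?_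
  exact (PresheafOfModules.naturality_apply ((toPre O).map ((sectOnι O U).app S.X₃)) v.op n).symm

theorem goodClass_sectOn :
    ModShf.AcyclicRes.GoodClass (sectOn O U) AcyclicMod where
  of_injective := acyclicMod_of_injective
  coker := acyclicMod_coker
  epi := epi_sectOn_map U

end Groth.Agent.ModSupp
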