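import Groth.Agent.ModSupp.Acyclic
import Groth.Agent.RDerLES

/-!
# Derived functors of `Γ_Z` vanish on totally acyclic modules
-/

set_option autoImplicit false

universe u v v' w w'

open CategoryTheory CategoryTheory.Limits Opposite

namespace Groth.Agent.ModSupp

section Good

variable {B : Type w} [Category.{v} B] [CategoryTheory.Abelian B] [HasInjectiveResolutions B]
  {D : Type w'} [Category.{v'} D] [CategoryTheory.Abelian D] (F : B ⥤ D) [F.Additive] [PreservesFiniteLimits F]
  {Q : ObjectProperty B}

/-- The objects of a good class are acyclic. -/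
theorem isZero_rightDerived_of_goodClass (hP : ModShf.AcyclicRes.GoodClass F Q) :
    ∀ (k : ℕ) (X : B), Q X → IsZero ((F.rightDerived (k + 1)).obj X) := by
  intro k
  induction k with
  | zero =>
    intro X hX
    let I := injectiveResolution X
    let S : ShortComplex B := ShortComplex.mk (I.ι.f 0) (cokernel.π _) (cokernel.condition _)
    have : Mono S.f := inferInstanceAs (Mono (I.ι.f 0))
    have hS : S.ShortExact := { exact := ShortComplex.exact_cokernel _, mono_f := ‹_›, epi_g := inferInstanceAs (Epi (cokernel.π _)) }
    have : Injective S.X₂ := inferInstanceAs (Injective (I.cocomplex.X 0))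
    have he : Epi (F.map S.g) := hP.epi S hS hX
    have : Epi ((F.rightDerived 0).map S.g) :=
      ((MorphismProperty.epimorphisms D).arrow_mk_iso_iff
        (Arrow.isoMk (F.rightDerivedZeroIsoSelf.app S.X₂) (F.rightDerivedZeroIsoSelf.app S.X₃)
          (F.rightDerivedZeroIsoSelf.hom.naturality S.g).symm :
          Arrow.mk ((F.rightDerived 0).map S.g) ≅ Arrow.mk (F.map S.g))).2 he
    let Δ := Groth.Agent.RDerLES.derivedLES F
    have hδ : Δ.δ S hS 0 1 rfl = 0 := by
      rw [← cancel_epi ((F.rightDerived 0).map S.g), comp_zero]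
      exact Δ.comp_δ S hS 0 1 rfl
    exact (Δ.exact₁ S hS 0 1 rfl).isZero_of_both_zeros hδ
      ((F.isZero_rightDerived_obj_injective_succ 0 S.X₂).eq_of_tgt _ _)
  | succ k ih =>
    intro X hX
    let I := injectiveResolution X
    let S : ShortComplex B := ShortComplex.mk (I.ι.f 0) (cokernel.π _) (cokernel.condition _)
    have : Mono S.f := inferInstanceAs (Mono (I.ι.f 0))
    have hS : S.ShortExact := { exact := ShortComplex.exact_cokernel _, mono_f := ‹_›, epi_g := inferInstanceAs (Epi (cokernel.π _)) }
    have : Injective S.X₂ := inferInstanceAs (Injective (I.cocomplex.X 0))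
    have hQ : Q S.X₃ := hP.coker S hS hX (hP.of_injective S.X₂ inferInstance)
    exact ((Groth.Agent.RDerLES.derivedLES F).exact₁ S hS (k + 1) (k + 1 + 1) rfl).isZero_of_both_zeros
      ((ih _ hQ).eq_of_src _ _) ((F.isZero_rightDerived_obj_injective_succ (k + 1) S.X₂).eq_of_tgt _ _)

end Good

open ModSite Groth.Agent.ExtSuppLib

variable {C : Type u} [SmallCategory C] {J : GrothendieckTopology C} {O : Sheaf J CommRingCat.{u}}
  (U : C) [HasPushOver O U]

theorem preservesFiniteLimits_sectOn : PreservesFiniteLimits (sectOn O U) :=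
  have : (sectOn O U).IsRightAdjoint := (quotSectAdj U).isRightAdjoint
  inferInstance

theorem isZero_HZsh [HasInjectiveResolutions (Mod O)] (M : Mod O) (hM : AcyclicMod M) (k : ℕ) :
    IsZero ((HZsh O U (k + 1)).obj M) :=
  have := preservesFiniteLimits_sectOn (O := O) U
  isZero_rightDerived_of_goodClass (sectOn O U) (goodClass_sectOn U) k M hM

end Groth.Agent.ModSupp
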