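import Groth.Agent.ExtSuppLib.Basic
import Mathlib.Algebra.Category.ModuleCat.Presheaf.Free

/-!
# Sections of `Γ_Z` of a sheaf of modules on a ringed site

The sections of `sectOn O U` are the sections which restrict to zero on every object mapping to `U`.
-/

set_option autoImplicit false

universe u

open CategoryTheory CategoryTheory.Limits Opposite

namespace Groth.Agent.ModSupp

open ModSite Groth.Agent.KFlat Groth.Agent.ExtSuppLib

variable {C : Type u} [SmallCategory C] {J : GrothendieckTopology C} {O : Sheaf J CommRingCat.{u}}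
  (U : C)

/-- The section `m` restricts to zero on every object mapping to `U`. -/
def Supported (M : Mod O) {V : C} (m : (toAb M).obj.obj (op V)) : Prop :=
  ∀ ⦃W : C⦄ (g : W ⟶ V) (_ : W ⟶ U), (toAb M).obj.map g.op m = 0

variable [HasPushOver O U]

/-- The sections of `Γ_Z M` viewed as sections of `M`. -/
noncomputable abbrev sectι (M : Mod O) (V : C) (k : (toAb ((sectOn O U).obj M)).obj.obj (op V)) :
    (toAb M).obj.obj (op V) :=
  ((toPre O).map ((sectOnι O U).app M)).app (op V) k

theorem supported_sectι (M : Mod O) (V : C) (k : (toAb ((sectOn O U).obj M)).obj.obj (op V)) :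
    Supported U M (sectι U M V k) := by
  intro W g w
  have h := restr_map_comp_sectOnι U (𝟙 ((sectOn O U).obj M))
  rw [Category.id_comp, restr_map_eq_zero_iff] at h
  exact (PresheafOfModules.naturality_apply ((toPre O).map ((sectOnι O U).app M)) g.op k).symm.trans
    (h w _)

theorem sectι_injective (M : Mod O) (V : C) : Function.Injective (sectι U M V) := by
  have : Mono ((sectOnι O U).app M) := inferInstanceAs (Mono (kernel.ι _))
  have : Mono ((toPre O).map ((sectOnι O U).app M)) := (toPre O).map_mono _
  exact PresheafOfModules.injective_of_mono ((toPre O).map ((sectOnι O U).app M)) (op V)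

/-- A supported section is a section of `Γ_Z`. -/
theorem exists_sectι_eq (M : Mod O) (V : C) (m : (toAb M).obj.obj (op V)) (h : Supported U M m) :
    ∃ k, sectι U M V k = m := by
  let φ : yoneda.obj V ⟶ ((toPre O).obj M).presheaf ⋙ forget _ := yonedaEquiv.symm m
  let a : PresheafOfModules.freeObj (yoneda.obj V) ⟶ (toPre O).obj M := PresheafOfModules.freeObjDesc φ
  let b := ((preAdj O).homEquiv _ M).symm a
  have hb : (restr O U).map b = 0 := by
    rw [restr_map_eq_zero_iff_adjunct, Equiv.apply_symm_apply]
    intro W w x
    have : a.app (op W) = 0 := ModuleCat.free_hom_ext (fun g => by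
      change ModuleCat.freeDesc (φ.app (op W)) (ModuleCat.freeMk g) = 0
      exact (ModuleCat.freeDesc_apply _ _).trans (h g w))
    rw [this]
    rfl
  let c := (preAdj O).homEquiv _ _ (sectOnLift U b hb)
  have hc : c ≫ (toPre O).map ((sectOnι O U).app M) = a := by
    rw [← (preAdj O).homEquiv_naturality_right, sectOnLift_ι]
    exact ((preAdj O).homEquiv _ M).apply_symm_apply a
  refine ⟨c.app (op V) (ModuleCat.freeMk (𝟙 V)), ?_⟩
  refine (congrArg (fun ψ : _ ⟶ (toPre O).obj M => ψ.app (op V) (ModuleCat.freeMk (𝟙 V))) hc).trans ?_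
  change ModuleCat.freeDesc (φ.app (op V)) (ModuleCat.freeMk (𝟙 V)) = m
  refine (ModuleCat.freeDesc_apply _ _).trans ?_
  exact ConcreteCategory.congr_hom ((toAb M).obj.map_id (op V)) m

end Groth.Agent.ModSupp
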