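import Groth.Agent.ExtSuppLib.Basic
import Groth.Agent.ModExt.Restr
import Groth.Agent.ExtSuppLib.Restrict

/-!
# `Γ_Z` and the internal Hom

A right exact functor commuting with `j_!` up to isomorphism and preserving the modules which
vanish on `U` commutes with `M ↦ M/M_U`.
-/

set_option autoImplicit false

universe u

open CategoryTheory CategoryTheory.Limits Opposite

namespace Groth.Agent.ModSupp

open ModSite Groth.Agent.KFlat Groth.Agent.ExtSuppLib

variable {C : Type u} [SmallCategory C] {J : GrothendieckTopology C} {O : Sheaf J CommRingCat.{u}}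
  (U : C)

theorem eq_zero_of_extZero {X : Mod (O.over U)} {G : Mod O} (a : (extZero O U).obj X ⟶ G)
    (h : (restr O U).map a = 0) : a = 0 := by
  apply ((extZeroAdj O U).homEquiv X G).injective
  rw [Adjunction.homEquiv_unit, Adjunction.homEquiv_unit, h, Functor.map_zero]

theorem isZero_restr_quotOn (A : Mod O) : IsZero ((restr O U).obj ((quotOn O U).obj A)) := by
  rw [IsZero.iff_id_eq_zero]
  have : (restr O U).PreservesEpimorphisms := by
    have := ExtSuppLib.restr_preservesFiniteColimits O U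
    infer_instance
  have : Epi ((quotOnπ O U).app A) := inferInstanceAs (Epi (cokernel.π _))
  rw [← cancel_epi ((restr O U).map ((quotOnπ O U).app A)), comp_zero, Category.comp_id]
  have := restr_map_quotOnπ_comp U (𝟙 ((quotOn O U).obj A))
  rwa [Category.comp_id] at this

variable (T : Mod O ⥤ Mod O) [T.Additive]

omit [T.Additive] in
theorem restr_map_map_π_eq_zero
    (h₀ : ∀ A, IsZero ((restr O U).obj A) → IsZero ((restr O U).obj (T.obj A))) (A : Mod O) :
    (restr O U).map (T.map ((quotOnπ O U).app A)) = 0 :=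
  (h₀ _ (isZero_restr_quotOn U A)).eq_of_tgt _ _

/-- The comparison `(T A)/(T A)_U → T (A/A_U)`. -/
noncomputable def quotComm
    (h₀ : ∀ A, IsZero ((restr O U).obj A) → IsZero ((restr O U).obj (T.obj A))) (A : Mod O) :
    (quotOn O U).obj (T.obj A) ⟶ T.obj ((quotOn O U).obj A) :=
  quotOnDesc U (T.map ((quotOnπ O U).app A)) (restr_map_map_π_eq_zero U T h₀ A)

variable [PreservesFiniteColimits T]

theorem isIso_quotComm
    (h₀ : ∀ A, IsZero ((restr O U).obj A) → IsZero ((restr O U).obj (T.obj A)))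
    (h₁ : ∀ X : Mod (O.over U), ∃ X', Nonempty (T.obj ((extZero O U).obj X) ≅ (extZero O U).obj X'))
    (A : Mod O) : IsIso (quotComm U T h₀ A) := by
  let c := (extZeroAdj O U).counit.app A
  have hc : IsColimit (CokernelCofork.ofπ (f := T.map c) (T.map ((quotOnπ O U).app A))
      (by rw [← T.map_comp]; exact (congrArg T.map (cokernel.condition c)).trans (T.map_zero _ _))) :=
    CokernelCofork.mapIsColimit _ (cokernelIsCokernel c) T
  have hk : T.map c ≫ (quotOnπ O U).app (T.obj A) = 0 := by
    obtain ⟨X', ⟨e⟩⟩ := h₁ ((restr O U).obj A)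
    rw [← cancel_epi e.inv, comp_zero]
    apply eq_zero_of_extZero U
    have h0 := restr_map_quotOnπ_comp U (𝟙 ((quotOn O U).obj (T.obj A)))
    rw [Category.comp_id] at h0
    rw [Functor.map_comp, Functor.map_comp, h0, comp_zero, comp_zero]
  obtain ⟨l, hl⟩ := CokernelCofork.IsColimit.desc' hc _ hk
  dsimp at l hl
  refine ⟨l, quotOn_hom_ext U ?_, ?_⟩
  · rw [Category.comp_id, ← Category.assoc, quotComm, quotOnπ_desc]
    exact hl
  · apply Cofork.IsColimit.hom_ext hc
    change T.map ((quotOnπ O U).app A) ≫ l ≫ quotComm U T h₀ A = T.map ((quotOnπ O U).app A) ≫ 𝟙 _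
    rw [Category.comp_id, ← Category.assoc, hl, quotComm, quotOnπ_desc]

omit [T.Additive] [PreservesFiniteColimits T] in
theorem natural_quotComm
    (h₀ : ∀ A, IsZero ((restr O U).obj A) → IsZero ((restr O U).obj (T.obj A))) {A B : Mod O}
    (f : A ⟶ B) :
    (quotOnπ O U).app (T.obj A) ≫ (quotOn O U).map (T.map f) ≫ quotComm U T h₀ B =
      (quotOnπ O U).app (T.obj A) ≫ quotComm U T h₀ A ≫ T.map ((quotOn O U).map f) :=
  calc
    _ = T.map f ≫ (quotOnπ O U).app (T.obj B) ≫ quotComm U T h₀ B :=
      (Category.assoc _ _ _).symm.trans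
        ((congrArg (· ≫ _) ((quotOnπ O U).naturality (T.map f)).symm).trans (Category.assoc _ _ _))
    _ = T.map f ≫ T.map ((quotOnπ O U).app B) := congrArg (_ ≫ ·) (quotOnπ_desc U _ _)
    _ = T.map (f ≫ (quotOnπ O U).app B) := (T.map_comp _ _).symm
    _ = T.map ((quotOnπ O U).app A ≫ (quotOn O U).map f) :=
      congrArg T.map ((quotOnπ O U).naturality f)
    _ = T.map ((quotOnπ O U).app A) ≫ T.map ((quotOn O U).map f) := T.map_comp _ _
    _ = ((quotOnπ O U).app (T.obj A) ≫ quotComm U T h₀ A) ≫ T.map ((quotOn O U).map f) :=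
      congrArg (· ≫ _) (quotOnπ_desc U _ _).symm
    _ = _ := Category.assoc _ _ _

/-- `T` commutes with `A ↦ A/A_U`. -/
noncomputable def quotCommIso
    (h₀ : ∀ A, IsZero ((restr O U).obj A) → IsZero ((restr O U).obj (T.obj A)))
    (h₁ : ∀ X : Mod (O.over U), ∃ X', Nonempty (T.obj ((extZero O U).obj X) ≅ (extZero O U).obj X')) :
    T ⋙ quotOn O U ≅ quotOn O U ⋙ T :=
  NatIso.ofComponents (fun A => @asIso _ _ _ _ (quotComm U T h₀ A) (isIso_quotComm U T h₀ h₁ A))
    (fun {A B} f => by
      exact quotOn_hom_ext U (natural_quotComm U T h₀ f))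

omit [T.Additive] [PreservesFiniteColimits T] in
theorem isZero_of_natIso {A₁ B₁ A₂ : Type*} [Category A₁] [Category B₁] [Category A₂]
    [HasZeroMorphisms A₂] [HasZeroMorphisms B₁] (F : A₁ ⥤ A₁) (G : A₁ ⥤ B₁) (G' : A₁ ⥤ A₂)
    (F' : A₂ ⥤ B₁) [F'.PreservesZeroMorphisms] (e : F ⋙ G ≅ G' ⋙ F') (x : A₁)
    (h : IsZero (G'.obj x)) : IsZero (G.obj (F.obj x)) :=
  (F'.map_isZero h).of_iso (e.app x)

omit [T.Additive] [PreservesFiniteColimits T] in
theorem preservesNull_flip (N A : Mod O) (h : IsZero ((restr O U).obj A)) :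
    IsZero ((restr O U).obj (((tensorBi O).flip.obj N).obj A)) := by
  exact isZero_of_natIso ((tensorBi O).flip.obj N) (restr O U) (restr O U)
    ((tensorBi (O.over U)).flip.obj ((restr O U).obj N)) (ModExt.restrTensorIso O U N) A h

omit [T.Additive] [PreservesFiniteColimits T] in
theorem preservesNull_obj (N A : Mod O) (h : IsZero ((restr O U).obj A)) :
    IsZero ((restr O U).obj (((tensorBi O).obj N).obj A)) :=
  (preservesNull_flip U N A h).of_iso
    ((restr O U).mapIso (((tensorBiFlipIso O).app N).app A).symm)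

omit [T.Additive] [PreservesFiniteColimits T] in
theorem extZero_flip (N : Mod O) (X : Mod (O.over U)) :
    ∃ X', Nonempty (((tensorBi O).flip.obj N).obj ((extZero O U).obj X) ≅ (extZero O U).obj X') :=
  ⟨_, ⟨((ModExt.projIso O U N).app X).symm⟩⟩

omit [T.Additive] [PreservesFiniteColimits T] in
theorem extZero_obj (N : Mod O) (X : Mod (O.over U)) :
    ∃ X', Nonempty (((tensorBi O).obj N).obj ((extZero O U).obj X) ≅ (extZero O U).obj X') := by
  obtain ⟨X', ⟨e⟩⟩ := extZero_flip U N X
  exact ⟨X', ⟨(((tensorBiFlipIso O).app N).app _).symm ≪≫ e⟩⟩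

/-- `(N ⊗ M)/(N ⊗ M)_U ≅ N ⊗ (M/M_U)`, naturally in `N`. -/
noncomputable def quotTensorIso (M : Mod O) :
    (tensorBi O).flip.obj M ⋙ quotOn O U ≅ (tensorBi O).flip.obj ((quotOn O U).obj M) :=
  NatIso.ofComponents
    (fun N =>
      haveI : ((tensorBi O).obj N).Additive := inferInstance
      haveI : PreservesFiniteColimits ((tensorBi O).obj N) :=
        PreservesColimitsOfSize.preservesFiniteColimits _
      (quotCommIso U ((tensorBi O).obj N) (preservesNull_obj U N) (extZero_obj U N)).app M)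
    (fun {N N'} f => by
      apply quotOn_hom_ext U
      simp only [quotCommIso, Iso.app_hom, NatIso.ofComponents_hom_app, asIso_hom, Functor.comp_map,
        quotComm]
      rw [← Category.assoc, ← (quotOnπ O U).naturality, Category.assoc, quotOnπ_desc]
      erw [quotOnπ_desc_assoc]
      exact (((tensorBi O).map f).naturality ((quotOnπ O U).app M)).symm)

end Groth.Agent.ModSupp
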