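import Groth.Agent.S3089
import Groth.Agent.SiteCoh.Free
import Groth.Prelude.Def_ToposFin2
import Mathlib.Algebra.Homology.DerivedCategory.Ext.ExactSequences
import Mathlib.CategoryTheory.Sites.LeftExact

/-!
# `Ext^q(ℤ[T]/ℤ[K], F) = 0` for totally acyclic `F` and `q > 0`
-/

set_option autoImplicit false

universe u

open CategoryTheory CategoryTheory.Limits Opposite

namespace Groth.Agent.ModSupp

variable {C : Type u} [SmallCategory C] {J : GrothendieckTopology C}
  {F : Sheaf J AddCommGrpCat.{u}} (hF : CohCx.IsTotallyAcyclic F)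
include hF

theorem subsingleton_ext_freePre (P : Cᵒᵖ ⥤ Type u) (p : ℕ) :
    Subsingleton (Abelian.Ext ((SiteCoh.Free.freePre J).obj P) F (p + 1)) := by
  have := SiteCoh.Free.isIso_freePre_map_of_W J (toSheafify J P) (J.W_toSheafify _)
  have e := (((Abelian.extFunctor (C := Sheaf J AddCommGrpCat.{u}) (p + 1)).flip.obj F).mapIso
    (asIso ((SiteCoh.Free.freePre J).map (toSheafify J P))).op).addCommGroupIsoToAddEquiv
  exact @Equiv.subsingleton _ _ e.symm.toEquiv (hF ((presheafToSheaf J (Type u)).obj P) p)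

theorem exists_extend_freePre {P Q : Cᵒᵖ ⥤ Type u} (i : P ⟶ Q) [Mono i]
    (d : (SiteCoh.Free.freePre J).obj P ⟶ F) :
    ∃ e : (SiteCoh.Free.freePre J).obj Q ⟶ F, (SiteCoh.Free.freePre J).map i ≫ e = d := by
  let Fr := SiteCoh.Free.freePre J
  let sh := presheafToSheaf J (Type u)
  have := SiteCoh.Free.isIso_freePre_map_of_W J (toSheafify J P) (J.W_toSheafify _)
  have : Mono (sh.map i) := Functor.map_mono sh i
  obtain ⟨e, he⟩ := Groth.Agent.S3089.result F hF (sh.map i) (inv (Fr.map (toSheafify J P)) ≫ d)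
  let e' : Fr.obj (sheafify J Q) ⟶ F := e
  have he' : Fr.map (sheafifyMap J i) ≫ e' = inv (Fr.map (toSheafify J P)) ≫ d := he
  refine ⟨Fr.map (toSheafify J Q) ≫ e', ?_⟩
  rw [← Category.assoc, ← Functor.map_comp, toSheafify_naturality J i, Functor.map_comp,
    Category.assoc, he', IsIso.hom_inv_id_assoc]

theorem subsingleton_ext_cokernel_of_mono {P Q : Cᵒᵖ ⥤ Type u} (i : P ⟶ Q) [Mono i]
    [Mono ((SiteCoh.Free.freePre J).map i)] (p : ℕ) :
    Subsingleton (Abelian.Ext (cokernel ((SiteCoh.Free.freePre J).map i)) F (p + 1)) := by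
  let m := (SiteCoh.Free.freePre J).map i
  let T : ShortComplex (Sheaf J AddCommGrpCat.{u}) :=
    ShortComplex.mk m (cokernel.π m) (cokernel.condition m)
  have hT : T.ShortExact :=
    { exact := ShortComplex.exact_of_g_is_cokernel T (cokernelIsCokernel m)
      mono_f := inferInstanceAs (Mono m)
      epi_g := coequalizer.π_epi }
  refine subsingleton_of_forall_eq 0 fun (x : Abelian.Ext T.X₃ F (p + 1)) => ?_
  obtain ⟨y, rfl⟩ := Abelian.Ext.contravariant_sequence_exact₃ hT F x
    ((subsingleton_ext_freePre hF Q p).elim _ _) (add_comm 1 p)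
  rcases p with _ | k
  · obtain ⟨d, rfl⟩ := (Abelian.Ext.mk₀_bijective _ _).2 y
    obtain ⟨e, rfl⟩ := exists_extend_freePre hF i d
    rw [← Abelian.Ext.mk₀_comp_mk₀]
    exact hT.extClass_comp_assoc _ (h := add_comm 1 0)
  · rw [(subsingleton_ext_freePre hF P k).elim y 0, Abelian.Ext.comp_zero]

omit hF in
theorem mono_freePre_map {P Q : Cᵒᵖ ⥤ Type u} (i : P ⟶ Q) [Mono i] :
    Mono ((SiteCoh.Free.freePre J).map i) := by
  have : ∀ V, Mono (i.app V) := fun V => inferInstance
  have : Mono (Functor.whiskerRight i AddCommGrpCat.free.{u}) := by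
    rw [NatTrans.mono_iff_mono_app]
    intro V
    exact inferInstanceAs (Mono (AddCommGrpCat.free.{u}.map (i.app V)))
  exact inferInstanceAs (Mono ((presheafToSheaf J AddCommGrpCat.{u}).map
    (Functor.whiskerRight i AddCommGrpCat.free.{u})))

/-- The image presheaf. -/
def imgPre {K T : Cᵒᵖ ⥤ Type u} (f : K ⟶ T) : Cᵒᵖ ⥤ Type u where
  obj W := { t : T.obj W // ∃ k, f.app W k = t }
  map {W W'} g := ↾fun t => ⟨T.map g t.1, by
    obtain ⟨k, hk⟩ := t.2
    exact ⟨K.map g k, (NatTrans.naturality_apply f g k).trans (congrArg _ hk)⟩⟩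

/-- Cohomology with supports of a totally acyclic sheaf vanishes. -/
theorem subsingleton_ext_quotZ (K : Sheaf J (Type u)) (p : ℕ) :
    Subsingleton (Abelian.Ext (ToposFin.quotZ K) F (p + 1)) := by
  let f : K.obj ⟶ (⊤_ (Sheaf J (Type u))).obj := (terminal.from K).hom
  let i : imgPre f ⟶ (⊤_ (Sheaf J (Type u))).obj := { app := fun W => ↾fun t => t.1 }
  let q : K.obj ⟶ imgPre f :=
    { app := fun W => ↾fun k => ⟨f.app W k, k, rfl⟩
      naturality := fun W W' g => by
        refine ConcreteCategory.hom_ext _ _ (fun k => Subtype.ext ?_)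
        exact NatTrans.naturality_apply f g k }
  have : Mono i := by
    have : ∀ W, Mono (i.app W) := fun W => (CategoryTheory.mono_iff_injective _).2 Subtype.val_injective
    exact NatTrans.mono_of_mono_app _
  have hq : Epi q := by
    have : ∀ W, Epi (q.app W) := fun W => (CategoryTheory.epi_iff_surjective _).2
      (by rintro ⟨t, k, rfl⟩; exact ⟨k, rfl⟩)
    exact NatTrans.epi_of_epi_app _
  have := mono_freePre_map (J := J) i
  have : (SiteCoh.Free.freePre J).IsLeftAdjoint := (SiteCoh.Free.adj J).isLeftAdjoint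
  have : Epi ((SiteCoh.Free.freePre J).map q) := Functor.map_epi _ q
  have e : cokernel ((SiteCoh.Free.freePre J).map i) ≅ ToposFin.quotZ K :=
    (cokernelEpiComp ((SiteCoh.Free.freePre J).map q) ((SiteCoh.Free.freePre J).map i)).symm ≪≫
      cokernelIsoOfEq (((SiteCoh.Free.freePre J).map_comp q i).symm.trans rfl)
  have e' := (((Abelian.extFunctor (C := Sheaf J AddCommGrpCat.{u}) (p + 1)).flip.obj F).mapIso
    e.op).addCommGroupIsoToAddEquiv
  exact @Equiv.subsingleton _ _ e'.toEquiv (subsingleton_ext_cokernel_of_mono hF i p)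

end Groth.Agent.ModSupp
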