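import Groth.Agent.ModSupp.Elem
import Groth.Agent.ModExt.Basic

/-!
# `Γ_Z` commutes with restriction
-/

set_option autoImplicit false

universe u

open CategoryTheory CategoryTheory.Limits Opposite

namespace Groth.Agent.ModSupp

open ModSite Groth.Agent.KFlat Groth.Agent.ExtSuppLib

variable {C : Type u} [SmallCategory C] {J : GrothendieckTopology C} {O : Sheaf J CommRingCat.{u}}

theorem isIso_of_bijective_sections {M N : Mod O} (f : M ⟶ N)
    (h : ∀ V : C, Function.Bijective (((toPre O).map f).app (op V))) : IsIso f := by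
  have : ∀ V : Cᵒᵖ, IsIso (((SheafOfModules.toSheaf (ringSh O)).map f).hom.app V) := fun V =>
    (ConcreteCategory.isIso_iff_bijective _).2 (h V.unop)
  have : IsIso ((SheafOfModules.toSheaf (ringSh O)).map f).hom := NatIso.isIso_of_isIso_app _
  have : IsIso ((SheafOfModules.toSheaf (ringSh O)).map f) :=
    (ObjectProperty.isIso_hom_iff _).1 this
  exact isIso_of_reflects_iso f (SheafOfModules.toSheaf (ringSh O))

variable [HasBinaryProducts C] (U X : C) [HasPushOver O U]

/-- `U × X → X`. -/
noncomputable abbrev prodOver : Over X := Over.mk (Limits.prod.snd : U ⨯ X ⟶ X)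

variable [HasPushOver (O.over X) (prodOver U X)]

omit [HasPushOver (O.over X) (prodOver U X)] in
theorem restr_map_sectOnι_eq_zero (M : Mod O) :
    (restr (O.over X) (prodOver U X)).map ((restr O X).map ((sectOnι O U).app M)) = 0 := by
  rw [restr_map_eq_zero_iff]
  intro W w k
  have h := supported_sectι U M W.left k (𝟙 W.left) (w.left ≫ Limits.prod.fst)
  refine Eq.trans ?_ h
  exact (ConcreteCategory.congr_hom ((toAb M).obj.map_id (op W.left)) _).symm

/-- `(Γ_Z M)|_X → Γ_{Z/X}(M|_X)`. -/
noncomputable def restrSectMap (M : Mod O) :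
    (restr O X).obj ((sectOn O U).obj M) ⟶
      (sectOn (O.over X) (prodOver U X)).obj ((restr O X).obj M) :=
  sectOnLift (prodOver U X) _ (restr_map_sectOnι_eq_zero U X M)

theorem sectι_restrSectMap (M : Mod O) (W : Over X)
    (k : (toAb ((sectOn O U).obj M)).obj.obj (op W.left)) :
    sectι (prodOver U X) ((restr O X).obj M) W
      (((toPre (O.over X)).map (restrSectMap U X M)).app (op W) k) = sectι U M W.left k :=
  congrArg (fun φ : (restr O X).obj ((sectOn O U).obj M) ⟶ (restr O X).obj M =>
    ((toPre (O.over X)).map φ).app (op W) k)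
    (sectOnLift_ι (prodOver U X) _ (restr_map_sectOnι_eq_zero U X M))

theorem isIso_restrSectMap (M : Mod O) : IsIso (restrSectMap U X M) := by
  refine isIso_of_bijective_sections _ fun W => ⟨fun k k' hk => ?_, fun t => ?_⟩
  · apply sectι_injective U M W.left
    rw [← sectι_restrSectMap U X M W k, ← sectι_restrSectMap U X M W k', hk]
  · have hm : Supported U M (V := W.left) (sectι (prodOver U X) ((restr O X).obj M) W t) := by
      intro V g w
      exact supported_sectι (prodOver U X) ((restr O X).obj M) W t
        (Over.homMk g rfl : Over.mk (g ≫ W.hom) ⟶ W)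
        (Over.homMk (prod.lift w (g ≫ W.hom)) (prod.lift_snd _ _))
    obtain ⟨k, hk⟩ := exists_sectι_eq U M W.left _ hm
    refine ⟨k, sectι_injective (prodOver U X) ((restr O X).obj M) W ?_⟩
    rw [sectι_restrSectMap]
    exact hk

theorem natural_aux {M N : Mod O} (φ : M ⟶ N) :
    ((restr O X).map ((sectOn O U).map φ) ≫ restrSectMap U X N) ≫
        (sectOnι (O.over X) (prodOver U X)).app ((restr O X).obj N) =
      (restrSectMap U X M ≫ (sectOn (O.over X) (prodOver U X)).map ((restr O X).map φ)) ≫
        (sectOnι (O.over X) (prodOver U X)).app ((restr O X).obj N) :=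
  calc
    _ = (restr O X).map ((sectOn O U).map φ) ≫ (restr O X).map ((sectOnι O U).app N) :=
      (Category.assoc _ _ _).trans (congrArg (_ ≫ ·) (sectOnLift_ι _ _ _))
    _ = (restr O X).map ((sectOnι O U).app M ≫ φ) :=
      ((restr O X).map_comp _ _).symm.trans (congrArg _ ((sectOnι O U).naturality φ))
    _ = (restr O X).map ((sectOnι O U).app M) ≫ (restr O X).map φ := (restr O X).map_comp _ _
    _ = (restrSectMap U X M ≫ (sectOnι (O.over X) (prodOver U X)).app ((restr O X).obj M)) ≫
          (restr O X).map φ := congrArg (· ≫ _) (sectOnLift_ι _ _ _).symm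
    _ = restrSectMap U X M ≫ (sectOnι (O.over X) (prodOver U X)).app ((restr O X).obj M) ≫
          (restr O X).map φ := Category.assoc _ _ _
    _ = restrSectMap U X M ≫ (sectOn (O.over X) (prodOver U X)).map ((restr O X).map φ) ≫
          (sectOnι (O.over X) (prodOver U X)).app ((restr O X).obj N) :=
      congrArg (_ ≫ ·) ((sectOnι (O.over X) (prodOver U X)).naturality ((restr O X).map φ)).symm
    _ = _ := (Category.assoc _ _ _).symm

/-- `(Γ_Z -)|_X ≅ Γ_{Z/X}(-|_X)`. -/
noncomputable def restrSectIso :
    sectOn O U ⋙ restr O X ≅ restr O X ⋙ sectOn (O.over X) (prodOver U X) :=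
  NatIso.ofComponents (fun M => @asIso _ _ _ _ (restrSectMap U X M) (isIso_restrSectMap U X M))
    (fun {M N} φ => by
      refine sectOn_hom_ext (prodOver U X) ?_
      exact (natural_aux U X φ))

end Groth.Agent.ModSupp
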