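import Groth.Agent.ModSupp.Restr
import Mathlib.Algebra.Category.ModuleCat.Sheaf.ChangeOfRings

/-!
# `Γ_Z` commutes with restriction of scalars
-/

set_option autoImplicit false

universe u

open CategoryTheory CategoryTheory.Limits Opposite

namespace Groth.Agent.ModSupp

open ModSite Groth.Agent.KFlat Groth.Agent.ExtSuppLib

variable {C : Type u} [SmallCategory C] {J : GrothendieckTopology C} {O O' : Sheaf J CommRingCat.{u}}
  (φ : O ⟶ O') (U : C) [HasPushOver O U] [HasPushOver O' U]

/-- Restriction of scalars. -/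
noncomputable abbrev res : Mod O' ⥤ Mod O :=
  SheafOfModules.restrictScalars ((sheafCompose J (forget₂ CommRingCat.{u} RingCat.{u})).map φ)

omit [HasPushOver O U] in
theorem restr_map_res_sectOnι_eq_zero (M : Mod O') :
    (restr O U).map ((res φ).map ((sectOnι O' U).app M)) = 0 := by
  rw [restr_map_eq_zero_iff]
  intro W w k
  have h := supported_sectι U M W k (𝟙 W) w
  refine Eq.trans ?_ h
  exact (ConcreteCategory.congr_hom ((toAb M).obj.map_id (op W)) _).symm

/-- `Γ_Z(M) → Γ_Z(M)` through restriction of scalars. -/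
noncomputable def scalSectMap (M : Mod O') :
    (res φ).obj ((sectOn O' U).obj M) ⟶ (sectOn O U).obj ((res φ).obj M) :=
  sectOnLift U _ (restr_map_res_sectOnι_eq_zero φ U M)

theorem sectι_scalSectMap (M : Mod O') (V : C)
    (k : (toAb ((sectOn O' U).obj M)).obj.obj (op V)) :
    sectι U ((res φ).obj M) V (((toPre O).map (scalSectMap φ U M)).app (op V) k) = sectι U M V k :=
  congrArg (fun ψ : (res φ).obj ((sectOn O' U).obj M) ⟶ (res φ).obj M =>
    ((toPre O).map ψ).app (op V) k) (sectOnLift_ι U _ (restr_map_res_sectOnι_eq_zero φ U M))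

theorem isIso_scalSectMap (M : Mod O') : IsIso (scalSectMap φ U M) := by
  refine isIso_of_bijective_sections _ fun V => ⟨fun k k' hk => ?_, fun t => ?_⟩
  · apply sectι_injective U M V
    rw [← sectι_scalSectMap φ U M V k, ← sectι_scalSectMap φ U M V k', hk]
  · have hm : Supported U M (V := V) (sectι U ((res φ).obj M) V t) :=
      supported_sectι U ((res φ).obj M) V t
    obtain ⟨k, hk⟩ := exists_sectι_eq U M V _ hm
    refine ⟨k, sectι_injective U ((res φ).obj M) V ?_⟩
    rw [sectι_scalSectMap]
    exact hk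

theorem natural_scal {M N : Mod O'} (f : M ⟶ N) :
    ((res φ).map ((sectOn O' U).map f) ≫ scalSectMap φ U N) ≫
        (sectOnι O U).app ((res φ).obj N) =
      (scalSectMap φ U M ≫ (sectOn O U).map ((res φ).map f)) ≫
        (sectOnι O U).app ((res φ).obj N) :=
  calc
    _ = (res φ).map ((sectOn O' U).map f) ≫ (res φ).map ((sectOnι O' U).app N) :=
      (Category.assoc _ _ _).trans (congrArg (_ ≫ ·) (sectOnLift_ι _ _ _))
    _ = (res φ).map ((sectOnι O' U).app M ≫ f) :=
      ((res φ).map_comp _ _).symm.trans (congrArg _ ((sectOnι O' U).naturality f))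
    _ = (res φ).map ((sectOnι O' U).app M) ≫ (res φ).map f := (res φ).map_comp _ _
    _ = (scalSectMap φ U M ≫ (sectOnι O U).app ((res φ).obj M)) ≫ (res φ).map f :=
      congrArg (· ≫ _) (sectOnLift_ι _ _ _).symm
    _ = scalSectMap φ U M ≫ (sectOnι O U).app ((res φ).obj M) ≫ (res φ).map f :=
      Category.assoc _ _ _
    _ = scalSectMap φ U M ≫ (sectOn O U).map ((res φ).map f) ≫
          (sectOnι O U).app ((res φ).obj N) :=
      congrArg (_ ≫ ·) ((sectOnι O U).naturality ((res φ).map f)).symm
    _ = _ := (Category.assoc _ _ _).symm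

/-- `Γ_Z` commutes with restriction of scalars. -/
noncomputable def scalSectIso : sectOn O' U ⋙ res φ ≅ res φ ⋙ sectOn O U :=
  NatIso.ofComponents (fun M => @asIso _ _ _ _ (scalSectMap φ U M) (isIso_scalSectMap φ U M))
    (fun {M N} f => sectOn_hom_ext U (natural_scal φ U f))

end Groth.Agent.ModSupp
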