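import Groth.Agent.ModSupp.Acyclic
import Groth.Agent.InjMod.Supp
import Mathlib.CategoryTheory.Adjunction.Triple

/-!
# The unit `M ⟶ j_* (M|_U)` for a subterminal object `U`
-/

set_option autoImplicit false

universe u

open CategoryTheory CategoryTheory.Limits Opposite

namespace Groth.Agent.ModSupp

open ModSite Groth.Agent.KFlat Groth.Agent.ExtSuppLib

variable {C : Type u} [SmallCategory C] {J : GrothendieckTopology C} {O : Sheaf J CommRingCat.{u}}
  (U : C) [HasPushOver O U]

/-- A supported section of a direct image from `U` is zero. -/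
theorem eq_zero_of_supported_pushOver (N : Mod (O.over U)) (V : C)
    (x : (toAb ((pushOver O U).obj N)).obj.obj (op V)) (h : Supported U ((pushOver O U).obj N) x) :
    x = 0 := by
  obtain ⟨k, hk⟩ := exists_sectι_eq U ((pushOver O U).obj N) V x h
  let P := (pushOver O U).obj N
  let φ : (sectOn O U).obj P ⟶ P := (sectOnι O U).app P
  have h0 : (restr O U).map φ = 0 := by
    have h1 := restr_map_comp_sectOnι U (𝟙 ((sectOn O U).obj P))
    rwa [Category.id_comp] at h1
  have hφ : φ = 0 := by
    apply ((restrPushOverAdj O U).homEquiv _ N).symm.injective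
    rw [Adjunction.homEquiv_counit, Adjunction.homEquiv_counit, h0, Functor.map_zero]
  rw [← hk]
  exact congrArg (fun ψ => ((toPre O).map ψ).app (op V) k) hφ

variable [∀ W : C, Subsingleton (W ⟶ U)]

theorem isIso_counit (N : Mod (O.over U)) : IsIso ((restrPushOverAdj O U).counit.app N) := by
  have : ∀ M, IsIso ((extZeroAdj O U).unit.app M) := fun M => InjMod.isIso_extZeroAdj_unit O U M
  have : IsIso (extZeroAdj O U).unit := NatIso.isIso_of_isIso_app _
  let t : Adjunction.Triple (extZero O U) (restr O U) (pushOver O U) :=
    ⟨extZeroAdj O U, restrPushOverAdj O U⟩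
  have hu : IsIso (restrPushOverAdj O U).counit := t.isIso_unit_iff_isIso_counit.1 ‹_›
  exact inferInstance

theorem isIso_restr_map_unit (M : Mod O) :
    IsIso ((restr O U).map ((restrPushOverAdj O U).unit.app M)) := by
  have := isIso_counit U ((restr O U).obj M)
  have h := (restrPushOverAdj O U).left_triangle_components M
  have : IsIso ((restr O U).map ((restrPushOverAdj O U).unit.app M) ≫
      (restrPushOverAdj O U).counit.app ((restr O U).obj M)) := by
    rw [h]; infer_instance
  exact IsIso.of_isIso_comp_right _ ((restrPushOverAdj O U).counit.app ((restr O U).obj M))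

theorem bijective_unit_over (M : Mod O) {W : C} (w : W ⟶ U) :
    Function.Bijective (((toPre O).map ((restrPushOverAdj O U).unit.app M)).app (op W)) := by
  have := isIso_restr_map_unit U M
  let E := toPre (O.over U) ⋙ PresheafOfModules.toPresheaf _ ⋙
    (evaluation (Over U)ᵒᵖ AddCommGrpCat.{u}).obj (op (Over.mk w))
  have : IsIso (E.map ((restr O U).map ((restrPushOverAdj O U).unit.app M))) := inferInstance
  exact (ConcreteCategory.isIso_iff_bijective
    (E.map ((restr O U).map ((restrPushOverAdj O U).unit.app M)))).1 this

/-- The unit is an epimorphism on totally acyclic modules. -/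
theorem epi_unit (M : Mod O) (hM : AcyclicMod M) : Epi ((restrPushOverAdj O U).unit.app M) := by
  let η := (restrPushOverAdj O U).unit.app M
  have hsurj : ∀ V : C, Function.Surjective (((toPre O).map η).app (op V)) := by
    intro V t
    choose a ha using fun (W : C) (g : W ⟶ V) (w : W ⟶ U) =>
      (bijective_unit_over U M w).2 (((toAb ((pushOver O U).obj ((restr O U).obj M))).obj.map g.op) t)
    let α : overPre U V ⟶ (toAb M).obj ⋙ forget AddCommGrpCat.{u} :=
      { app := fun W => ↾fun g => a W.unop g.1 g.2.some
        naturality := fun W W' f => by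
          refine ConcreteCategory.hom_ext _ _ (fun g => ?_)
          apply (bijective_unit_over U M (f.unop ≫ g.2.some)).1
          refine (ha _ _ _).trans ?_
          refine Eq.trans ?_ (PresheafOfModules.naturality_apply ((toPre O).map η) f _).symm
          refine Eq.trans ?_ (congrArg _ (ha _ _ _).symm)
          exact ConcreteCategory.congr_hom
            ((toAb ((pushOver O U).obj ((restr O U).obj M))).obj.map_comp g.1.op f) t }
    obtain ⟨s, hs⟩ := exists_extend U (toAb M) hM V α
    refine ⟨s, ?_⟩
    rw [← sub_eq_zero]
    apply eq_zero_of_supported_pushOver U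
    intro W g w
    refine (map_sub _ _ _).trans (sub_eq_zero.2 ?_)
    refine (PresheafOfModules.naturality_apply ((toPre O).map η) g.op s).symm.trans ?_
    refine (congrArg _ (hs g w)).trans ?_
    exact ha W g _
  have : Epi ((SheafOfModules.toSheaf (ringSh O)).map η) := by
    rw [← Sheaf.isLocallySurjective_iff_epi']
    constructor
    intro V t
    obtain ⟨s, hs⟩ := hsurj V t
    refine J.superset_covering ?_ (J.top_mem V)
    intro W g _
    exact ⟨(toAb M).obj.map g.op s, (PresheafOfModules.naturality_apply ((toPre O).map η) g.op s).trans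
      (congrArg _ hs)⟩
  have := @CategoryTheory.Functor.reflectsEpimorphisms_of_faithful _ _ _ _
    (SheafOfModules.toSheaf.{u} (ringSh O)) inferInstance
  exact (SheafOfModules.toSheaf (ringSh O)).epi_of_epi_map ‹_›

omit [∀ W : C, Subsingleton (W ⟶ U)] in
theorem sectOnι_unit : sectOnι O U ≫ (restrPushOverAdj O U).unit = 0 := by
  ext1; ext1 M
  exact kernel.condition _

theorem shortExact_of_acyclic (M : Mod O) (hM : AcyclicMod M) :
    (ShortComplex.mk ((sectOnι O U).app M) ((restrPushOverAdj O U).unit.app M)
      (NatTrans.congr_app (sectOnι_unit U) M)).ShortExact := by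
  have := epi_unit U M hM
  exact ShortComplex.ShortExact.mk' (ShortComplex.exact_of_f_is_kernel _ (kernelIsKernel _))
    (inferInstanceAs (Mono (kernel.ι _))) this

end Groth.Agent.ModSupp
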